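import Groth.Agent.EtAlg.K315.RefN6
import Mathlib.FieldTheory.Relrank
import Mathlib.FieldTheory.IntermediateField.Adjoin.Algebra

/-!
# Linear disjointness up to `2 ^ c` (node N11 of job 600, refutation of S7162)

`F ≤ E` finite, `M = F (η_0, η_1, …)` with `η_(m+1) ^ 2 = η_m`, `η_0 ∈ F`, and `η_c ∈ E`, `η_(c+1) ∉ E`: then
`[E : F] ≤ 2 ^ c [M E : M]`.
-/

set_option autoImplicit false
universe u

namespace K315.RefN11

open Polynomial Module

variable {Ω : Type u} [Field Ω]

theorem finite_of_relfinrank_ne {A B : Subfield Ω} (h : A ≤ B) (h0 : A.relfinrank B ≠ 0) :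
    Module.Finite A (Subfield.extendScalars h) := by
  rw [Subfield.relfinrank_eq_finrank_of_le h] at h0
  exact Module.finite_of_finrank_pos (Nat.pos_of_ne_zero h0)

/-- Powers of the elements `η`. -/
theorem pow_eta {η : ℕ → Ω} (hη : ∀ m, η (m + 1) ^ 2 = η m) (m n : ℕ) : η (m + n) ^ 2 ^ n = η m := by
  induction n with
  | zero => simp
  | succ n ih =>
    rw [pow_succ, mul_comm, pow_mul, ← add_assoc, hη, ih]

/-- The degree of a simple extension. -/
theorem relfinrank_adjoin_le {F : Subfield Ω} {x : Ω} {N : ℕ} (hN : 0 < N) (hx : x ^ N ∈ F) :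
    F.relfinrank (F ⊔ Subfield.closure {x}) ≤ N := by
  have hint : IsIntegral F x := by
    refine ⟨X ^ N - C ⟨x ^ N, hx⟩, monic_X_pow_sub_C _ hN.ne', ?_⟩
    rw [← aeval_def, map_sub, map_pow, aeval_X, aeval_C]
    exact sub_self _
  have e : (IntermediateField.adjoin F {x}).toSubfield = F ⊔ Subfield.closure {x} := by
    apply le_antisymm
    · rw [IntermediateField.adjoin_toSubfield, Subfield.closure_le]
      rintro y (⟨z, rfl⟩ | hy)
      · exact (le_sup_left : F ≤ F ⊔ Subfield.closure {x}) z.2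
      · exact (le_sup_right : _ ≤ F ⊔ Subfield.closure {x}) (Subfield.subset_closure hy)
    · refine sup_le (fun y hy => ?_) ?_
      · exact (IntermediateField.adjoin F {x}).algebraMap_mem ⟨y, hy⟩
      · rw [Subfield.closure_le, Set.singleton_subset_iff]
        exact IntermediateField.mem_adjoin_simple_self F x
  have hF : F ≤ F ⊔ Subfield.closure {x} := le_sup_left
  rw [Subfield.relfinrank_eq_finrank_of_le hF]
  have e2 : Subfield.extendScalars hF = IntermediateField.adjoin F {x} := by
    apply IntermediateField.toSubfield_injective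
    rw [e]
    rfl
  rw [e2, IntermediateField.adjoin.finrank hint]
  have h1 : natDegree (X ^ N - C (⟨x ^ N, hx⟩ : F)) = N := natDegree_X_pow_sub_C
  rw [← h1]
  refine natDegree_le_of_dvd (minpoly.dvd F x ?_) (X_pow_sub_C_ne_zero hN _)
  rw [map_sub, map_pow, aeval_X, aeval_C]
  exact sub_self _

/-- Elements of a simple extension as combinations of powers. -/
theorem exists_coeff {F : Subfield Ω} {x : Ω} {N : ℕ} (hN : 0 < N) (hx : x ^ N ∈ F) {y : Ω}
    (hy : y ∈ F ⊔ Subfield.closure {x}) : ∃ f : Fin N → F, y = ∑ j, (f j : Ω) * x ^ (j : ℕ) := by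
  have hint : IsIntegral F x := by
    refine ⟨X ^ N - C ⟨x ^ N, hx⟩, monic_X_pow_sub_C _ hN.ne', ?_⟩
    rw [← aeval_def, map_sub, map_pow, aeval_X, aeval_C]
    exact sub_self _
  have h1 : y ∈ IntermediateField.adjoin F {x} := by
    have h2 : F ⊔ Subfield.closure {x} ≤ (IntermediateField.adjoin F {x}).toSubfield := by
      refine sup_le (fun y hy => ?_) ?_
      · exact (IntermediateField.adjoin F {x}).algebraMap_mem ⟨y, hy⟩
      · rw [Subfield.closure_le, Set.singleton_subset_iff]
        exact IntermediateField.mem_adjoin_simple_self F x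
    exact h2 hy
  have h3 : y ∈ Algebra.adjoin F {x} := by
    rw [← IntermediateField.adjoin_simple_toSubalgebra_of_isAlgebraic hint.isAlgebraic]
    exact h1
  rw [Algebra.adjoin_singleton_eq_range_aeval] at h3
  obtain ⟨p, rfl⟩ := h3
  set q : F[X] := X ^ N - C ⟨x ^ N, hx⟩ with hq
  have hqm : q.Monic := monic_X_pow_sub_C _ hN.ne'
  have hq0 : aeval x q = 0 := by
    rw [hq, map_sub, map_pow, aeval_X, aeval_C]
    exact sub_self _
  have h4 : aeval x p = aeval x (p %ₘ q) := by
    conv_lhs => rw [← modByMonic_add_div p q, map_add, map_mul, hq0, zero_mul, add_zero]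
  have hdeg : (p %ₘ q).natDegree < N := by
    have h5 : q.natDegree = N := natDegree_X_pow_sub_C
    rw [← h5]
    refine natDegree_modByMonic_lt p hqm ?_
    intro hc
    rw [hc, natDegree_one] at h5
    omega
  refine ⟨fun j => (p %ₘ q).coeff j, ?_⟩
  change aeval x p = _
  rw [h4, aeval_eq_sum_range' hdeg, Finset.sum_range]
  rfl

variable [CharP Ω 2]

/-- A family in `E` independent over `F_c` stays independent over `M`. -/
theorem li_of_li {F E M : Subfield Ω} (η : ℕ → Ω)
    (hη : ∀ m, η (m + 1) ^ 2 = η m) (hM : M ≤ F ⊔ Subfield.closure (Set.range η)) (c : ℕ)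
    (hcF : η c ∈ F) (hFE : F ≤ E) (hc' : η (c + 1) ∉ E) {ι : Type*} [Fintype ι] (e : ι → Ω)
    (he : ∀ i, e i ∈ E) (hli : LinearIndependent F e) : LinearIndependent M e := by
  classical
  have hmono : Monotone fun k => F ⊔ Subfield.closure {η k} := by
    refine monotone_nat_of_le_succ fun k => sup_le le_sup_left ?_
    rw [Subfield.closure_le, Set.singleton_subset_iff, SetLike.mem_coe, ← hη k]
    exact pow_mem ((le_sup_right : _ ≤ F ⊔ Subfield.closure {η (k + 1)}) (Subfield.subset_closure rfl)) 2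
  have hMS : M ≤ ⨆ k, F ⊔ Subfield.closure {η k} := by
    refine hM.trans (sup_le ?_ ?_)
    · exact le_trans le_sup_left (le_iSup (fun k => F ⊔ Subfield.closure {η k}) 0)
    · rw [Subfield.closure_le]
      rintro _ ⟨k, rfl⟩
      exact (le_iSup (fun k => F ⊔ Subfield.closure {η k}) k)
        ((le_sup_right : _ ≤ F ⊔ Subfield.closure {η k}) (Subfield.subset_closure rfl))
  rw [Fintype.linearIndependent_iff]
  intro g hg
  have h1 : ∀ i, ∃ k, (g i : Ω) ∈ F ⊔ Subfield.closure {η k} := fun i =>
    (Subfield.mem_iSup_of_directed hmono.directed_le).1 (hMS (g i).2)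
  choose k hk using h1
  obtain ⟨n, hn⟩ : ∃ n, ∀ i, k i ≤ c + n := by
    refine ⟨Finset.univ.sup k, fun i => ?_⟩
    exact (Finset.le_sup (f := k) (Finset.mem_univ i)).trans (Nat.le_add_left _ _)
  have hpow : η (c + n) ^ 2 ^ n = η c := pow_eta hη c n
  have h2 : ∀ i, ∃ f : Fin (2 ^ n) → F, (g i : Ω) = ∑ j, (f j : Ω) * η (c + n) ^ (j : ℕ) := fun i =>
    exists_coeff (by positivity) (by rw [hpow]; exact hcF) (hmono (hn i) (hk i))
  choose f hf using h2
  have hlin := RefN6.li_pow E (ω := η (c + n)) n (by rw [hpow]; exact hFE hcF) (by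
    intro b hb hb2
    rw [hpow, ← hη c] at hb2
    have h3 : b = η (c + 1) := by
      have h4 : (b - η (c + 1)) ^ 2 = 0 := by
        rw [sub_pow_char, hb2, sub_self]
      exact sub_eq_zero.1 ((pow_eq_zero_iff two_ne_zero).1 h4)
    exact hc' (h3 ▸ hb))
  rw [Fintype.linearIndependent_iff] at hlin
  have h5 := hlin (fun j => ⟨∑ i, (f i j : Ω) * e i, sum_mem fun i _ => mul_mem (hFE (f i j).2) (he i)⟩) (by
    rw [← hg]
    simp only [Subfield.smul_def, smul_eq_mul, hf, Finset.sum_mul]
    rw [Finset.sum_comm]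
    refine Finset.sum_congr rfl fun i _ => Finset.sum_congr rfl fun j _ => ?_
    ring)
  intro i
  have h6 : ∀ j, f i j = 0 := by
    intro j
    have h7 : ∑ i, (f i j : Ω) * e i = 0 := congrArg Subtype.val (h5 j)
    rw [Fintype.linearIndependent_iff] at hli
    exact hli (fun i => f i j) (by simpa [Subfield.smul_def] using h7) i
  apply Subtype.ext
  rw [hf i]
  simp [h6]

omit [CharP Ω 2] in
/-- The compositum with a finite extension is finite. -/
theorem finite_sup {F E M : Subfield Ω} (hFE : F ≤ E) (hFM : F ≤ M) (hfin : F.relfinrank E ≠ 0) :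
    Module.Finite M (Subfield.extendScalars (le_sup_left : M ≤ M ⊔ E)) := by
  have h1 := finite_of_relfinrank_ne hFE hfin
  let b := Module.finBasis F (Subfield.extendScalars hFE)
  have hint : ∀ x ∈ Set.range (fun i => (b i : Ω)), IsIntegral M x := by
    rintro _ ⟨i, rfl⟩
    have h2 : IsIntegral F (b i) := Algebra.IsIntegral.isIntegral _
    have h3 : IsIntegral F (b i : Ω) := h2.map (Subfield.extendScalars hFE).val
    let : Algebra F M := (Subfield.inclusion hFM).toAlgebra
    have : IsScalarTower F M Ω := IsScalarTower.of_algebraMap_eq fun _ => rfl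
    exact h3.tower_top
  have h4 : FiniteDimensional M (IntermediateField.adjoin M (Set.range (fun i => (b i : Ω)))) :=
    IntermediateField.finiteDimensional_adjoin hint
  have h5 : Subfield.extendScalars (le_sup_left : M ≤ M ⊔ E) ≤
      IntermediateField.adjoin M (Set.range (fun i => (b i : Ω))) := by
    have h6 : M ⊔ E ≤ (IntermediateField.adjoin M (Set.range (fun i => (b i : Ω)))).toSubfield := by
      refine sup_le (fun x hx => ?_) (fun x hx => ?_)
      · exact (IntermediateField.adjoin M (Set.range (fun i => (b i : Ω)))).algebraMap_mem ⟨x, hx⟩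
      · have h7 := b.sum_repr ⟨x, hx⟩
        have h8 : x = ∑ i, (b.repr ⟨x, hx⟩ i : Ω) * (b i : Ω) := by
          have h9 := congrArg (Subfield.extendScalars hFE).val h7
          rw [map_sum] at h9
          exact h9.symm
        rw [h8]
        refine sum_mem fun i _ => mul_mem ?_ ?_
        · exact (IntermediateField.adjoin M (Set.range (fun i => (b i : Ω)))).algebraMap_mem
            ⟨(b.repr ⟨x, hx⟩ i : Ω), hFM (b.repr ⟨x, hx⟩ i).2⟩
        · exact IntermediateField.subset_adjoin M _ ⟨i, rfl⟩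
    exact h6
  exact FiniteDimensional.of_injective (IntermediateField.inclusion h5).toLinearMap
    (IntermediateField.inclusion h5).injective

theorem ld {F E M : Subfield Ω} (hFE : F ≤ E) (hfin : F.relfinrank E ≠ 0) (η : ℕ → Ω) (h0 : η 0 ∈ F)
    (hη : ∀ m, η (m + 1) ^ 2 = η m) (hM : M = F ⊔ Subfield.closure (Set.range η)) (c : ℕ) (hc : η c ∈ E)
    (hc' : η (c + 1) ∉ E) : M.relfinrank (M ⊔ E) ≠ 0 ∧ F.relfinrank E ≤ 2 ^ c * M.relfinrank (M ⊔ E) := by
  have hFM : F ≤ M := by rw [hM]; exact le_sup_left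
  have hfinM := finite_sup hFE hFM hfin
  have hne : M.relfinrank (M ⊔ E) ≠ 0 := by
    rw [Subfield.relfinrank_eq_finrank_of_le (le_sup_left : M ≤ M ⊔ E)]
    exact (Module.finrank_pos).ne'
  refine ⟨hne, ?_⟩
  have hFc : F ≤ F ⊔ Subfield.closure {η c} := le_sup_left
  have hcE : F ⊔ Subfield.closure {η c} ≤ E := by
    refine sup_le hFE ?_
    rw [Subfield.closure_le, Set.singleton_subset_iff]
    exact hc
  have hpow : η c ^ 2 ^ c ∈ F := by
    have := pow_eta hη 0 c
    rw [zero_add] at this
    rw [this]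
    exact h0
  have h1 := relfinrank_adjoin_le (F := F) (x := η c) (N := 2 ^ c) (by positivity) hpow
  have h2 := Subfield.relfinrank_mul_relfinrank hFc hcE
  have hfin2 : (F ⊔ Subfield.closure {η c}).relfinrank E ≠ 0 := by
    intro h
    rw [h, mul_zero] at h2
    exact hfin h2.symm
  have h3 : (F ⊔ Subfield.closure {η c}).relfinrank E ≤ M.relfinrank (M ⊔ E) := by
    have h4 := finite_of_relfinrank_ne hcE hfin2
    let b := Module.finBasis (F ⊔ Subfield.closure {η c} : Subfield Ω) (Subfield.extendScalars hcE)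
    have hb : LinearIndependent (F ⊔ Subfield.closure {η c} : Subfield Ω) (fun i => (b i : Ω)) :=
      b.linearIndependent.map' (Subfield.extendScalars hcE).val.toLinearMap
        (LinearMap.ker_eq_bot.2 (Subfield.extendScalars hcE).val.injective)
    have h5 : LinearIndependent M (fun i => (b i : Ω)) := by
      refine li_of_li η hη ?_ c ((le_sup_right : _ ≤ F ⊔ Subfield.closure {η c}) (Subfield.subset_closure rfl))
        hcE hc' _ (fun i => (b i).2) hb
      rw [hM, sup_assoc]
      exact sup_le_sup_left le_sup_right F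
    have h6 : LinearIndependent M (fun i => (⟨(b i : Ω), (le_sup_right : E ≤ M ⊔ E) (b i).2⟩ :
        Subfield.extendScalars (le_sup_left : M ≤ M ⊔ E))) :=
      LinearIndependent.of_comp (Subfield.extendScalars (le_sup_left : M ≤ M ⊔ E)).val.toLinearMap h5
    have h7 := h6.fintype_card_le_finrank
    rw [Fintype.card_fin] at h7
    rw [Subfield.relfinrank_eq_finrank_of_le hcE,
      Subfield.relfinrank_eq_finrank_of_le (le_sup_left : M ≤ M ⊔ E)]
    exact h7
  rw [← h2]
  exact Nat.mul_le_mul h1 h3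

section

variable {Ω : Type} [NormedField Ω] [CharP Ω 2]

/-- Node N11. -/
theorem N11_ld {F E M : Subfield Ω} (hFE : F ≤ E) (hfin : F.relfinrank E ≠ 0) (η : ℕ → Ω) (h0 : η 0 ∈ F)
    (hη : ∀ m, η (m + 1) ^ 2 = η m) (hM : M = F ⊔ Subfield.closure (Set.range η)) (c : ℕ) (hc : η c ∈ E)
    (hc' : η (c + 1) ∉ E) : M.relfinrank (M ⊔ E) ≠ 0 ∧ F.relfinrank E ≤ 2 ^ c * M.relfinrank (M ⊔ E) :=
  ld hFE hfin η h0 hη hM c hc hc'

end

end K315.RefN11
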