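import Groth.Agent.EtAlg.K405.Ctx
import Mathlib.FieldTheory.SeparableDegree

/-!
# Independence of the powers of a purely inseparable element (node N6 of job 600, refutation of S7162)

In characteristic two, if `ω ^ (2 ^ n) ∈ κ` is not a square of `κ` then `1, ω, …, ω ^ (2 ^ n - 1)` are linearly
independent over `κ`.
-/

set_option autoImplicit false
universe u

namespace K315.RefN6

open Polynomial

/-- The degree of the minimal polynomial. -/
theorem le_natDegree {Ω : Type u} [Field Ω] [CharP Ω 2] (κ : Subfield Ω) {ω : Ω} (n : ℕ) (ha : ω ^ 2 ^ n ∈ κ)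
    (hns : ∀ b ∈ κ, b ^ 2 ≠ ω ^ 2 ^ n) : 2 ^ n ≤ (minpoly κ ω).natDegree := by
  have hc : CharP κ 2 := (RingHom.charP_iff κ.subtype κ.subtype.injective 2).2 inferInstance
  have : ExpChar κ 2 := ExpChar.prime Nat.prime_two
  have h1 : (minpoly κ ω).natSepDegree = 1 :=
    (minpoly.natSepDegree_eq_one_iff_pow_mem 2).2 ⟨n, ⟨⟨ω ^ 2 ^ n, ha⟩, rfl⟩⟩
  obtain ⟨m, y, hy⟩ := (minpoly.natSepDegree_eq_one_iff_eq_X_pow_sub_C 2).1 h1
  have h2 : ω ^ 2 ^ m = (y : Ω) := by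
    have h3 := minpoly.aeval κ ω
    rw [hy, map_sub, map_pow, aeval_X, aeval_C, sub_eq_zero] at h3
    exact h3
  rw [hy, natDegree_X_pow_sub_C]
  by_contra hlt
  have hmn : m < n := by
    by_contra hc
    exact hlt (Nat.pow_le_pow_right (by norm_num) (not_lt.1 hc))
  refine hns ((y : Ω) ^ 2 ^ (n - m - 1)) (pow_mem y.2 _) ?_
  rw [← h2, ← pow_mul, ← pow_mul, ← pow_succ, ← pow_add]
  congr 2
  omega

theorem li_pow {Ω : Type u} [Field Ω] [CharP Ω 2] (κ : Subfield Ω) {ω : Ω} (n : ℕ) (ha : ω ^ 2 ^ n ∈ κ)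
    (hns : ∀ b ∈ κ, b ^ 2 ≠ ω ^ 2 ^ n) : LinearIndependent κ (fun j : Fin (2 ^ n) => ω ^ (j : ℕ)) :=
  (linearIndependent_pow (K := κ) ω).comp (Fin.castLE (le_natDegree κ n ha hns)) (Fin.castLE_injective _)

variable {Ω : Type} [NormedField Ω] [CharP Ω 2]

/-- Node N6. -/
theorem N6_li (κ : Subfield Ω) {ω : Ω} (n : ℕ) (ha : ω ^ 2 ^ n ∈ κ) (hns : ∀ b ∈ κ, b ^ 2 ≠ ω ^ 2 ^ n) :
    LinearIndependent κ (fun j : Fin (2 ^ n) => ω ^ (j : ℕ)) := li_pow κ n ha hns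

end K315.RefN6
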